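import Groth.Agent.Lib.ASLef19.Core
import Groth.Agent.Lib.GaCoh3.ASGlobal
import Groth.Agent.Lib.CIProj14.Van
import Groth.Agent.Lib.Twist.GlobalProjSpace
import Groth.Agent.Lib.Twist.Pullback
import Groth.Agent.Lib.Twist.Tensor
import Groth.Agent.Lib.Rigid19.AntiAffine
import Groth.Agent.Lib.PointLim24.ConnSections
import Groth.Agent.Lib.PointLim24.Crit
import Groth.Agent.Lib.PointLim24.ConstSections
import Groth.Agent.Lib.GaCoh3.ZarAcyc
import Groth.Agent.Lib.Kleiman14.Dim
import Groth.Agent.Lib.LiftFib11.HomLift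
import Groth.Agent.Lib.RegExt.P1
import Groth.Agent.S7856

/-!
# Constant `p`-torsion coefficients on complete intersections in projective space
-/

set_option autoImplicit false
set_option linter.style.haveILetI false
set_option backward.isDefEq.respectTransparency.types false
universe u

open CategoryTheory CategoryTheory.Limits AlgebraicGeometry Opposite CategoryTheory.Abelian

noncomputable section

namespace Groth.Agent.ASLef19

open Groth.Agent

theorem subsingleton_H_Ga {X : Scheme.{u}} (n : ℕ) (h : Subsingleton (Coh.HH X (Coh.structureModule X) n)) :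
    Subsingleton (EtCoh.H X (EtCoh.Ga X) n) :=
  (GaCoh3.exists_H_Ga_equiv X n).choose.toEquiv.subsingleton

/-- Pullback between connected schemes is bijective on sections of constant sheaves. -/
theorem bijective_Hpull_zero_connected {W Z : Scheme.{u}} (i : Z ⟶ W) [PreservesFiniteLimits (EtCoh.pull i)]
    [Nonempty W] [PreconnectedSpace W] [Nonempty Z] [PreconnectedSpace Z] (M : Type) [AddCommGroup M] :
    Function.Bijective (EtCore.Hpull i (EtCoh.const W M) 0) := by
  rw [PointLim24.bijective_Hpull_zero_iff]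
  let c := LocConst24.constSec W M (EtCoh.top W)
  have hb := fun (Ω : Type u) [Field Ω] [IsSepClosed Ω] (ξ : Spec (CommRingCat.of Ω) ⟶ W)
    (v : EtStalk.fib ξ (EtCoh.top W)) => LocConst24.bijAt_constSec W M (EtCoh.top W) Ω ξ v
  have h1 := PointLim24.bijective_const_of_connected (EtCoh.const W M) c hb
  have h2 := PointLim24.bijective_const_of_connected ((EtCoh.pull i).obj (EtCoh.const W M))
    (fun m => StrictLim24.sec i (EtCoh.const W M) (EtCoh.top W) i (Category.comp_id i) (c m))
    (fun Ω _ _ ξ v => PointLim24.bijective_germ_sec i (EtCoh.const W M) c ξ v (fun w => hb Ω _ w))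
  exact (Function.Bijective.of_comp_iff _ h1).1 h2

theorem subsingleton_H_const_one (Z : Scheme.{u}) (p q : ℕ) :
    Subsingleton (EtCoh.H Z (EtCoh.const Z (ZMod (p ^ 0))) q) := by
  refine subsingleton_of_forall_eq 0 fun x => ?_
  have h1 : 𝟙 (EtCoh.const Z (ZMod (p ^ 0))) = 0 := (one_nsmul _).symm.trans (EtAcyc24.nsmul_id_const Z 1)
  rw [← Ext.comp_mk₀_id x, h1, Ext.mk₀_zero, Ext.comp_zero]

theorem bijective_Hpull_one_pow {W Z : Scheme.{u}} (i : Z ⟶ W) [PreservesFiniteLimits (EtCoh.pull i)]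
    [Nonempty W] [PreconnectedSpace W] [Nonempty Z] [PreconnectedSpace Z] (p : ℕ) (hp : p ≠ 0)
    (h1 : Function.Bijective (EtCore.Hpull i (EtCoh.const W (ZMod p)) 1))
    (h2 : Subsingleton (EtCoh.H W (EtCoh.const W (ZMod p)) 2)) (m : ℕ) :
    Function.Bijective (EtCore.Hpull i (EtCoh.const W (ZMod (p ^ m))) 1) := by
  induction m with
  | zero =>
    haveI := subsingleton_H_const_one W p 1
    haveI := subsingleton_H_const_one Z p 1
    haveI := GaCoh3.subsingleton_H_of_iso (EtCore.pullConst i (ZMod (p ^ 0))).symm 1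
    exact ⟨fun _ _ _ => Subsingleton.elim _ _, fun y => ⟨0, Subsingleton.elim _ _⟩⟩
  | succ m ih =>
    let A (n : ℕ) := AddCommGrpCat.of (ULift.{u + 1} (ZMod n))
    let im : A (p ^ m) ⟶ A (p ^ (m + 1)) := AddCommGrpCat.ofHom
      (AddEquiv.ulift.symm.toAddMonoidHom.comp ((Groth.Agent.LocAcycBC6.mulHom p m).comp AddEquiv.ulift.toAddMonoidHom))
    let π : ZMod (p ^ (m + 1)) →+* ZMod p := ZMod.castHom (dvd_pow_self p m.succ_ne_zero) (ZMod p)
    let r : A (p ^ (m + 1)) ⟶ A p := AddCommGrpCat.ofHom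
      (AddEquiv.ulift.symm.toAddMonoidHom.comp (π.toAddMonoidHom.comp AddEquiv.ulift.toAddMonoidHom))
    have hinj : ∀ z : ZMod (p ^ m), Groth.Agent.LocAcycBC6.mulHom p m z = 0 → z = 0 := fun z hz => by
      obtain ⟨k, rfl⟩ := ZMod.intCast_surjective z
      rw [Groth.Agent.LocAcycBC6.mulHom_intCast, ZMod.intCast_zmod_eq_zero_iff_dvd] at hz
      rw [ZMod.intCast_zmod_eq_zero_iff_dvd]
      rw [pow_succ, Nat.cast_mul] at hz
      exact (mul_dvd_mul_iff_right (by exact_mod_cast hp)).1 hz
    have hex : ∀ z : ZMod (p ^ (m + 1)), π z = 0 → ∃ y, Groth.Agent.LocAcycBC6.mulHom p m y = z := fun z hz => by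
      obtain ⟨k, rfl⟩ := ZMod.intCast_surjective z
      rw [map_intCast, ZMod.intCast_zmod_eq_zero_iff_dvd] at hz
      obtain ⟨d, rfl⟩ := hz
      exact ⟨(d : ZMod (p ^ m)), by rw [Groth.Agent.LocAcycBC6.mulHom_intCast, mul_comm]⟩
    have hw : im ≫ r = 0 := by
      ext z
      obtain ⟨k, hk⟩ := ZMod.intCast_surjective z.down
      show π (Groth.Agent.LocAcycBC6.mulHom p m z.down) = 0
      rw [← hk, Groth.Agent.LocAcycBC6.mulHom_intCast, map_intCast, Int.cast_mul, Int.cast_natCast, ZMod.natCast_self, mul_zero]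
    let S := ShortComplex.mk im r hw
    have hS : S.ShortExact :=
      { exact := by
          rw [ShortComplex.ab_exact_iff]
          intro z hz
          obtain ⟨y, hy⟩ := hex z.down (congrArg ULift.down hz)
          exact ⟨⟨y⟩, congrArg ULift.up hy⟩
        mono_f := by
          rw [AddCommGrpCat.mono_iff_injective, injective_iff_map_eq_zero]
          intro z hz
          exact congrArg ULift.up (hinj z.down (congrArg ULift.down hz))
        epi_g := by
          rw [AddCommGrpCat.epi_iff_surjective]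
          intro z
          obtain ⟨y, hy⟩ := ZMod.ringHom_surjective π z.down
          exact ⟨⟨y⟩, congrArg ULift.up hy⟩ }
    haveI := LocAcycBC6.preservesFiniteLimits_cs W
    haveI := LocAcycBC6.preservesFiniteColimits_cs W
    let T := S.map (LocAcyc24.cs W)
    have hT : T.ShortExact := hS.map_of_exact (LocAcyc24.cs W)
    have e3 : T.X₃ = EtCoh.const W (ZMod p) := rfl
    have e1 : T.X₁ = EtCoh.const W (ZMod (p ^ m)) := rfl
    have a0 : Function.Bijective (EtCore.Hpull i T.X₃ 0) := by rw [e3]; exact bijective_Hpull_zero_connected i (ZMod p)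
    have a1 : Function.Bijective (EtCore.Hpull i T.X₁ 1) := by rw [e1]; exact ih
    have a2 : Function.Bijective (EtCore.Hpull i T.X₃ 1) := by rw [e3]; exact h1
    have a3 : Subsingleton (EtCoh.H W T.X₁ 2) := by rw [e1]; exact LocAcycBC6.subsingleton_H_const_pow p W hp 2 h2 m
    exact bijective_Hpull_one_of_ext i hT a0 a1 a2 a3

variable {k : Type u} [Field k] {n c : ℕ} {a : Fin c → ℕ} (G : ∀ j : Fin c, LefPen.Form n k (a j))

theorem nonempty_ciIdeal (hc : c ≤ n) (ha : ∀ j, 1 ≤ a j)
    (hdim : topologicalKrullDim ↥(CohB1.ProjSpace n k) = n) : Nonempty ↥(LefPen.ciIdeal G).subscheme := by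
  haveI : IsIntegral (CohB1.ProjSpace n k) := RegExt.isIntegral_projSpace n k
  let T := ProjectiveSpectrum (CohB1.polyGrading n k)
  have hu : topologicalKrullDim ↥(Set.univ : Set T) = n :=
    (IsHomeomorph.topologicalKrullDim_eq _ (Homeomorph.Set.univ T).isHomeomorph).trans hdim
  have hirr : IsIrreducible (Set.univ : Set T) := IrreducibleSpace.isIrreducible_univ (CohB1.ProjSpace n k)
  obtain ⟨y, -, hy⟩ := (ProjDim18.codim_components_inter_zeroLocus k n Set.univ isClosed_univ hirr
    (fun j => (G j).1) a (fun j => (MvPolynomial.mem_homogeneousSubmodule _ _).1 (G j).2) (fun j => ha j)).2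
    (by rw [hu]; exact_mod_cast hc)
  rw [← ProjDim18.support_ciIdeal G, ← (LefPen.ciIdeal G).range_subschemeι] at hy
  exact ⟨hy.choose⟩

theorem surjective_toGlobal (ha : ∀ j, 1 ≤ a j) (hc : c ≤ n) (h1 : 1 ≤ n - c)
    (hdim : topologicalKrullDim ↥(LefPen.ciIdeal G).subscheme ≤ ((n - c : ℕ) : WithBot ℕ∞)) :
    Function.Surjective ((Scheme.ΓSpecIso (CommRingCat.of k)).inv ≫
      ((LefPen.ciIdeal G).subschemeι ≫ CohB1.ProjSpace.toSpec n k).appTop).hom := by
  have hsurj := (CIProj14.good_ciIdeal c a G ha hc hdim).surj h1 0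
  let ι := (LefPen.ciIdeal G).subschemeι
  intro s
  let g : Γ(Twist.twistProjSpace n k 0, (⊤ : (CohB1.ProjSpace n k).Opens)) :=
    Groth.Agent.Twist.frac (CohB1.polyGrading n k) ⊤ (n := 0) (SetLike.one_mem_graded _) (SetLike.one_mem_graded _)
      (by simp) (fun x _ => Groth.Agent.Twist.one_notMem_prime _ x)
  have hg : Groth.Agent.Twist.IsGen (Twist.twistProjSpace n k 0) ⊤ g := fun W hW =>
    Groth.Agent.Twist.bijective_smul_of_inverse (𝒜 := CohB1.polyGrading n k) (n := 0)
      (Groth.Agent.Twist.frac (CohB1.polyGrading n k) ⊤ (n := 0) (SetLike.one_mem_graded _) (SetLike.one_mem_graded _)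
        (by simp) (fun x _ => Groth.Agent.Twist.one_notMem_prime _ x))
      (Groth.Agent.Twist.castSec neg_zero.symm
        (Groth.Agent.Twist.frac (CohB1.polyGrading n k) ⊤ (n := 0) (SetLike.one_mem_graded _) (SetLike.one_mem_graded _)
          (by simp) (fun x _ => Groth.Agent.Twist.one_notMem_prime _ x)))
      (fun x hx => by
        rw [Groth.Agent.Twist.val_castSec]
        exact Groth.Agent.Twist.mk_mul_mk_eq_one _ _ _) W hW
  have hgp := hg.pullback ι
  let p := Groth.Agent.M2.pullSec ι (Twist.twistProjSpace n k 0) g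
  obtain ⟨u, hu⟩ := hsurj ((show Γ((LefPen.ciIdeal G).subscheme, ι ⁻¹ᵁ ⊤) from s) • p)
  obtain ⟨c, hc⟩ := (hg ⊤ le_rfl).2 u
  have h1 : u = c • g := by
    refine hc.symm.trans ?_
    exact congrArg (c • ·) (Groth.Agent.M1.mres_id _ _ _)
  rw [h1, Groth.Agent.M2.pullSec_smul] at hu
  have h2 : ι.app ⊤ c = s := (hgp (ι ⁻¹ᵁ ⊤) le_rfl).1 (by
    show _ • Groth.Agent.M1.mres _ _ p = _ • Groth.Agent.M1.mres _ _ p
    rw [Groth.Agent.M1.mres_id]
    exact hu)
  obtain ⟨d, hd⟩ := (Groth.Agent.Twist.bijective_toSpec_appTop (n := n) (R := k)).2 c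
  refine ⟨d, ?_⟩
  show (ι ≫ CohB1.ProjSpace.toSpec n k).appTop ((Scheme.ΓSpecIso (CommRingCat.of k)).inv d) = s
  rw [Scheme.Hom.comp_appTop]
  refine Eq.trans ?_ h2
  exact congrArg (ι.app ⊤) hd

end Groth.Agent.ASLef19
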