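import Groth.Agent.Lib.GaCoh3.AS
import Groth.Agent.Lib.EtAcyc24.LqfCriterion
import Groth.Agent.Lib.EtStalk.HofPush
import Groth.Agent.Lib.LocAcyc24.TorsionConst
import Groth.Agent.Lib.LocAcycBC6.ConstDev
import Groth.Prelude.Def_EtLim

/-!
# Pullback of the Artin–Schreier sequence
-/

set_option autoImplicit false
set_option linter.style.haveILetI false
set_option backward.isDefEq.respectTransparency.types false
universe u

open CategoryTheory CategoryTheory.Limits AlgebraicGeometry Opposite CategoryTheory.Abelian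

noncomputable section

namespace Groth.Agent.ASLef19

open Groth.Agent

variable {W Z : Scheme.{u}} (i : Z ⟶ W)

/-- The comparison `i⁻¹ G_a → G_a`. -/
def gaComp : (EtCoh.pull i).obj (EtCoh.Ga W) ⟶ EtCoh.Ga Z :=
  (EtCoh.pull i).map (EtLim.GaPush i) ≫ (EtCoh.pullPushAdj i).counit.app (EtCoh.Ga Z)

theorem homEquiv_map_gaComp {F : EtCoh.Ab W} (φ : F ⟶ EtCoh.Ga W) :
    (EtCoh.pullPushAdj i).homEquiv _ _ ((EtCoh.pull i).map φ ≫ gaComp i) = φ ≫ EtLim.GaPush i := by
  refine ((EtCoh.pullPushAdj i).homEquiv _ _).symm.injective ?_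
  rw [Equiv.symm_apply_apply, Adjunction.homEquiv_counit, Functor.map_comp, Category.assoc]
  rfl

variable (p : ℕ) [Fact p.Prime] (hW : (p : Γ(W, ⊤)) = 0) (hZ : (p : Γ(Z, ⊤)) = 0)

theorem artinSchreier_gaPush :
    W4c5etcohweilstudent.artinSchreierEndo W p Fact.out hW ≫ EtLim.GaPush i =
      EtLim.GaPush i ≫ (EtCoh.push i).map (W4c5etcohweilstudent.artinSchreierEndo Z p Fact.out hZ) := by
  refine Sheaf.hom_ext (NatTrans.ext (funext fun U => AddCommGrpCat.ext fun ⟨x⟩ => ?_))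
  refine ULift.ext _ _ ?_
  let x' : Γ(U.unop.left, ⊤) := x
  show (pullback.fst U.unop.hom i).appTop (x' ^ p - x') =
    ((pullback.fst U.unop.hom i).appTop x') ^ p - (pullback.fst U.unop.hom i).appTop x'
  rw [map_sub, map_pow]

theorem artinSchreier_gaComp :
    (EtCoh.pull i).map (W4c5etcohweilstudent.artinSchreierEndo W p Fact.out hW) ≫ gaComp i =
      gaComp i ≫ W4c5etcohweilstudent.artinSchreierEndo Z p Fact.out hZ := by
  refine ((EtCoh.pullPushAdj i).homEquiv _ _).injective ?_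
  rw [homEquiv_map_gaComp, Adjunction.homEquiv_naturality_right, artinSchreier_gaPush i p hW hZ]
  congr 1
  have h := homEquiv_map_gaComp i (𝟙 (EtCoh.Ga W))
  rw [CategoryTheory.Functor.map_id, Category.id_comp, Category.id_comp] at h
  exact h.symm

/-- Restriction of global functions on the top étale objects. -/
def gaRes : (EtCoh.Ga W).obj.obj (op (EtCoh.top W)) →+ (EtCoh.Ga Z).obj.obj (op (EtCoh.top Z)) :=
  ((EtCoh.Ga Z).obj.map (EtCore.bcTopIso i).inv.op).hom.comp ((EtLim.GaPush i).hom.app (op (EtCoh.top W))).hom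

theorem gaRes_down (x : (EtCoh.Ga W).obj.obj (op (EtCoh.top W))) :
    (gaRes i x).down = i.appTop (x.down : Γ(W, ⊤)) := by
  show (EtCore.bcTopIso i).inv.left.appTop ((pullback.fst (𝟙 W) i).appTop (x.down : Γ(W, ⊤))) = _
  have hw : (EtCore.bcTopIso i).inv.left ≫ pullback.snd (𝟙 W) i = 𝟙 Z :=
    MorphismProperty.Over.w (EtCore.bcTopIso i).inv
  have e : (EtCore.bcTopIso i).inv.left ≫ pullback.fst (𝟙 W) i = i := by
    have h := congrArg ((EtCore.bcTopIso i).inv.left ≫ ·) (pullback.condition (f := 𝟙 W) (g := i))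
    simp only [Category.comp_id] at h
    exact h.trans ((Category.assoc _ _ _).symm.trans ((congrArg (· ≫ i) hw).trans (Category.id_comp i)))
  exact congr(($e).appTop (x.down : Γ(W, ⊤)))

theorem bijective_gaRes (h : Function.Bijective i.appTop) : Function.Bijective (gaRes i) := by
  refine ⟨fun a b hab => ULift.ext _ _ (h.1 ?_), fun y => ?_⟩
  · exact (gaRes_down i a).symm.trans ((congrArg ULift.down hab).trans (gaRes_down i b))
  · obtain ⟨a, ha⟩ := h.2 (y.down : Γ(Z, ⊤))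
    exact ⟨ULift.up a, ULift.ext _ _ ((gaRes_down i (ULift.up a)).trans ha)⟩

variable (M : Type) [AddCommGroup M]

theorem homEquiv_pull_gaComp (φ : EtCoh.const W M ⟶ EtCoh.Ga W) (m : ULift.{u + 1} M) :
    (EtCore.constAdj Z).homEquiv _ _ ((EtCore.pullConst i M).inv ≫ (EtCoh.pull i).map φ ≫ gaComp i) m =
      gaRes i ((EtCore.constAdj W).homEquiv _ _ φ m) := by
  let A1 := ((EtCore.constAdj W).comp (EtCoh.pullPushAdj i)).ofNatIsoRight (EtCore.pushGsecIso i)
  let g := (EtCoh.pull i).map φ ≫ gaComp i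
  have h1 : (EtCore.constAdj Z).homEquiv _ _ ((EtCore.pullConst i M).inv ≫ g) =
      A1.homEquiv (AddCommGrpCat.of (ULift.{u + 1} M)) _ g := by
    have h : (EtCore.constAdj Z).homEquiv (AddCommGrpCat.of (ULift.{u + 1} M)) _ (EtCore.pullConst i M).inv =
        A1.unit.app (AddCommGrpCat.of (ULift.{u + 1} M)) :=
      Adjunction.homEquiv_leftAdjointUniq_hom_app (EtCore.constAdj Z) A1 _
    rw [Adjunction.homEquiv_naturality_right, h, A1.homEquiv_unit]
  rw [h1, Adjunction.homEquiv_ofNatIsoRight_apply, Adjunction.comp_homEquiv, Equiv.trans_apply,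
    homEquiv_map_gaComp, Adjunction.homEquiv_naturality_right]
  rfl

theorem homEquiv_asι (m : ULift.{u + 1} (ZMod p)) :
    (EtCore.constAdj W).homEquiv _ _ (GaCoh3.asι p hW) m =
      ULift.up (GaCoh3.castΓ p hW (EtCoh.top W) m.down) :=
  ConcreteCategory.congr_hom (NatTrans.congr_app (toSheafify_sheafifyLift W.smallEtaleTopology
    (GaCoh3.constPre p hW) (EtCoh.Ga W).property) (op (EtCoh.top W))) m

theorem asι_natural :
    (EtCore.pullConst i (ZMod p)).inv ≫ (EtCoh.pull i).map (GaCoh3.asι p hW) ≫ gaComp i = GaCoh3.asι p hZ := by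
  apply ((EtCore.constAdj Z).homEquiv _ _).injective
  refine AddCommGrpCat.ext fun m => ?_
  rw [homEquiv_pull_gaComp, homEquiv_asι, homEquiv_asι]
  refine ULift.ext _ _ ?_
  rw [gaRes_down]
  show i.appTop (GaCoh3.castΓ p hW (EtCoh.top W) m.down) = GaCoh3.castΓ p hZ (EtCoh.top Z) m.down
  rw [GaCoh3.castΓ_eq, GaCoh3.castΓ_eq]
  exact map_natCast i.appTop.hom _

theorem bijective_pull_gaComp (h : Function.Bijective i.appTop) :
    Function.Bijective fun φ : EtCoh.const W ℤ ⟶ EtCoh.Ga W =>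
      (EtCore.pullConst i ℤ).inv ≫ (EtCoh.pull i).map φ ≫ gaComp i := by
  refine ⟨fun a b hab => ?_, fun ψ => ?_⟩
  · apply ((EtCore.constAdj W).homEquiv _ _).injective
    refine AddCommGrpCat.ext fun m => (bijective_gaRes i h).1 ?_
    rw [← homEquiv_pull_gaComp, ← homEquiv_pull_gaComp]
    exact congrArg (fun t => (EtCore.constAdj Z).homEquiv _ _ t m) hab
  · let e := AddEquiv.ofBijective (gaRes i) (bijective_gaRes i h)
    let f : AddCommGrpCat.of (ULift.{u + 1} ℤ) ⟶ (EtCoh.Ga W).obj.obj (op (EtCoh.top W)) :=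
      AddCommGrpCat.ofHom (e.symm.toAddMonoidHom.comp ((EtCore.constAdj Z).homEquiv _ _ ψ).hom)
    refine ⟨((EtCore.constAdj W).homEquiv _ _).symm f, ((EtCore.constAdj Z).homEquiv _ _).injective ?_⟩
    refine AddCommGrpCat.ext fun m => ?_
    rw [homEquiv_pull_gaComp]
    rw [Equiv.apply_symm_apply]
    exact e.apply_symm_apply (((EtCore.constAdj Z).homEquiv _ _ ψ).hom m)

variable [PreservesFiniteLimits (EtCoh.pull i)]

include hW hZ in
/-- Degree one: constant coefficients compare when the functions do. -/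
theorem bijective_Hpull_one (hsec : Function.Bijective i.appTop)
    (h1W : Subsingleton (EtCoh.H W (EtCoh.Ga W) 1)) (h1Z : Subsingleton (EtCoh.H Z (EtCoh.Ga Z) 1)) :
    Function.Bijective (EtCore.Hpull i (EtCoh.const W (ZMod p)) 1) := by
  let SW := GaCoh3.asSeq p hW
  let SZ := GaCoh3.asSeq p hZ
  have hSW := GaCoh3.asSeq_shortExact p hW
  have hSZ := GaCoh3.asSeq_shortExact p hZ
  let e := EtCore.pullConst i (ZMod p)
  haveI : (EtCoh.pull i).Additive := EtCore.pull_additive i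
  let α : SW.map (EtCoh.pull i) ⟶ SZ :=
    { τ₁ := e.hom
      τ₂ := gaComp i
      τ₃ := gaComp i
      comm₁₂ := by
        show e.hom ≫ GaCoh3.asι p hZ = (EtCoh.pull i).map (GaCoh3.asι p hW) ≫ gaComp i
        rw [← asι_natural i p hW hZ]
        exact e.hom_inv_id_assoc _
      comm₂₃ := (artinSchreier_gaComp i p hW hZ).symm }
  let G : EtCoh.H W (EtCoh.Ga W) 0 → EtCoh.H Z (EtCoh.Ga Z) 0 := fun a =>
    (EtCore.Hpull i (EtCoh.Ga W) 0 a).comp (Ext.mk₀ (gaComp i)) (add_zero 0)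
  have hG : Function.Bijective G := by
    have hh : G ∘ (fun φ => Ext.mk₀ φ) = (fun ψ => Ext.mk₀ ψ) ∘ fun φ : EtCoh.const W ℤ ⟶ EtCoh.Ga W =>
        (EtCore.pullConst i ℤ).inv ≫ (EtCoh.pull i).map φ ≫ gaComp i := funext fun φ => by
      show (EtCore.Hpull i (EtCoh.Ga W) 0 (Ext.mk₀ φ)).comp (Ext.mk₀ (gaComp i)) (add_zero 0) = Ext.mk₀ _
      rw [EtStalk.Hpull_eq, Ext.mapExactFunctor_mk₀]
      simp only [Ext.mk₀_comp_mk₀, Category.assoc]
    refine (Function.Bijective.of_comp_iff G (Ext.mk₀_bijective _ _)).1 ?_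
    rw [hh]
    exact (Ext.mk₀_bijective _ _).comp (bijective_pull_gaComp i hsec)
  have key : ∀ a : EtCoh.H W (EtCoh.Ga W) 0,
      (EtCore.Hpull i (EtCoh.const W (ZMod p)) 1 (a.comp hSW.extClass rfl)).comp (Ext.mk₀ e.hom) (add_zero 1) =
        (G a).comp hSZ.extClass rfl := fun a => by
    erw [EtAcyc24.Hpull_delta i hSW a]
    refine (Ext.comp_assoc_of_third_deg_zero _ _ _ _).trans ?_
    erw [ShortComplex.ShortExact.extClass_naturality (hSW.map_of_exact (EtCoh.pull i)) hSZ α]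
    exact (Ext.comp_assoc_of_second_deg_zero _ _ _ _).symm
  constructor
  · refine (injective_iff_map_eq_zero _).2 fun x hx => ?_
    obtain ⟨a, rfl⟩ := Ext.covariant_sequence_exact₁ _ hSW x (h1W.elim _ _) (n₀ := 0) rfl
    have h0 : (G a).comp hSZ.extClass rfl = 0 := by
      rw [← key]
      erw [hx]
      exact Ext.zero_comp _ _ _ _ _
    obtain ⟨b, hb⟩ := Ext.covariant_sequence_exact₃ _ hSZ (G a) rfl h0
    obtain ⟨c, rfl⟩ := hG.2 b
    have hc : G (c.comp (Ext.mk₀ SW.g) (add_zero 0)) = G a := by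
      rw [← hb]
      show (EtCore.Hpull i (EtCoh.Ga W) 0 (c.comp (Ext.mk₀ SW.g) (add_zero 0))).comp (Ext.mk₀ (gaComp i)) (add_zero 0) =
        ((EtCore.Hpull i (EtCoh.Ga W) 0 c).comp (Ext.mk₀ (gaComp i)) (add_zero 0)).comp (Ext.mk₀ SZ.g) (add_zero 0)
      erw [← LocAcyc24.Hpull_nat]
      simp only [Ext.comp_assoc_of_third_deg_zero, Ext.mk₀_comp_mk₀]
      exact congrArg (fun t => Ext.comp _ (Ext.mk₀ t) (add_zero 0)) (artinSchreier_gaComp i p hW hZ)
    rw [← hG.1 hc, Ext.comp_assoc_of_second_deg_zero]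
    erw [hSW.comp_extClass]
    exact Ext.comp_zero _ _ _ _ _
  · intro y
    let y' : EtCoh.H Z (EtCoh.const Z (ZMod p)) 1 := y.comp (Ext.mk₀ e.hom) (add_zero 1)
    obtain ⟨b, hb⟩ := Ext.covariant_sequence_exact₁ _ hSZ y' (h1Z.elim _ _) (n₀ := 0) rfl
    obtain ⟨a, rfl⟩ := hG.2 b
    refine ⟨a.comp hSW.extClass rfl, ?_⟩
    have h2 := congrArg (fun z => Ext.comp z (Ext.mk₀ e.inv) (add_zero 1)) ((key a).trans hb)
    simp only [y', Ext.comp_assoc_of_third_deg_zero, Ext.mk₀_comp_mk₀, e.hom_inv_id, Ext.comp_mk₀_id] at h2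
    exact h2

omit [Fact p.Prime] in
/-- A five lemma for pullback in degree one. -/
theorem bijective_Hpull_one_of_ext {T : ShortComplex (EtCoh.Ab W)} (hT : T.ShortExact)
    (h30 : Function.Bijective (EtCore.Hpull i T.X₃ 0)) (h11 : Function.Bijective (EtCore.Hpull i T.X₁ 1))
    (h31 : Function.Bijective (EtCore.Hpull i T.X₃ 1)) (h2 : Subsingleton (EtCoh.H W T.X₁ 2)) :
    Function.Bijective (EtCore.Hpull i T.X₂ 1) := by
  haveI : (EtCoh.pull i).Additive := EtCore.pull_additive i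
  have hT' := hT.map_of_exact (EtCoh.pull i)
  have nf := fun (x : EtCoh.H W T.X₁ 1) => LocAcyc24.Hpull_nat i T.f 1 x
  have ng := fun (x : EtCoh.H W T.X₂ 1) => LocAcyc24.Hpull_nat i T.g 1 x
  constructor
  · refine (injective_iff_map_eq_zero _).2 fun x hx => ?_
    have hg : x.comp (Ext.mk₀ T.g) (add_zero 1) = 0 := h31.1 (by
      rw [← ng, hx, map_zero]
      exact Ext.zero_comp _ _ _ _ _)
    obtain ⟨a, rfl⟩ := Ext.covariant_sequence_exact₂ _ hT x hg
    have ha : (EtCore.Hpull i T.X₁ 1 a).comp (Ext.mk₀ ((EtCoh.pull i).map T.f)) (add_zero 1) = 0 :=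
      (nf a).trans hx
    obtain ⟨c, hc⟩ := Ext.covariant_sequence_exact₁ _ hT' _ ha (n₀ := 0) rfl
    obtain ⟨c, rfl⟩ := h30.2 c
    have he : a = c.comp hT.extClass rfl := h11.1 (hc.symm.trans (EtAcyc24.Hpull_delta i hT c).symm)
    rw [he, Ext.comp_assoc_of_third_deg_zero]
    erw [hT.extClass_comp]
    exact Ext.comp_zero _ _ _ _ _
  · intro y
    obtain ⟨b, hb⟩ := h31.2 (y.comp (Ext.mk₀ ((EtCoh.pull i).map T.g)) (add_zero 1))
    obtain ⟨x, hx⟩ := Ext.covariant_sequence_exact₃ _ hT b (n₁ := 2) rfl (h2.elim _ _)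
    have h0 : (y - EtCore.Hpull i T.X₂ 1 x).comp (Ext.mk₀ ((EtCoh.pull i).map T.g)) (add_zero 1) = 0 := by
      rw [sub_eq_add_neg, Ext.add_comp, Ext.neg_comp, ng, hx, hb, add_neg_cancel]
    obtain ⟨a, ha⟩ := Ext.covariant_sequence_exact₂ _ hT' _ h0
    obtain ⟨a, rfl⟩ := h11.2 a
    refine ⟨x + a.comp (Ext.mk₀ T.f) (add_zero 1), ?_⟩
    rw [map_add, ← nf]
    erw [ha]
    exact add_sub_cancel _ _

end Groth.Agent.ASLef19
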